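import Mathlib.RingTheory.AdicCompletion.Functoriality
import Mathlib.RingTheory.AdicCompletion.Algebra
import Mathlib.RingTheory.AdicCompletion.Exactness
import Mathlib.RingTheory.Regular.RegularSequence

/-!
Completion along a principal ideal of a regular sequence with bounded torsion quotients.
-/

set_option autoImplicit false
set_option linter.style.haveILetI false
set_option backward.isDefEq.respectTransparency false
set_option backward.isDefEq.respectTransparency.types false
universe u

open scoped Pointwise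
open RingTheory.Sequence

namespace Groth.Agent.ComplReg

variable {A : Type u} [CommRing A] (a : A)

theorem mem_pow_smul_top {M : Type u} [AddCommGroup M] [Module A M] (n : ℕ) (x : M) :
    x ∈ (Ideal.span {a} ^ n • ⊤ : Submodule A M) ↔ ∃ y, a ^ n • y = x := by
  rw [Ideal.span_singleton_pow, Submodule.ideal_span_singleton_smul, Submodule.mem_smul_pointwise_iff_exists]
  simp

theorem val_smul' {M : Type u} [AddCommGroup M] [Module A M] (r : A) (x : AdicCompletion (Ideal.span {a}) M) (n : ℕ) :
    (r • x).val n = r • x.val n := rfl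

theorem exact_step {M M' : Type u} [AddCommGroup M] [Module A M] [AddCommGroup M'] [Module A M'] (r : A)
    (π : M →ₗ[A] M') (hπ : Function.Surjective π) (hker : ∀ x, π x = 0 ↔ ∃ y, r • y = x)
    (hreg : ∀ x : M, r • x = 0 → x = 0) (N : ℕ)
    (hN : ∀ x : M', (∃ m : ℕ, a ^ m • x = 0) → a ^ N • x = 0) :
    (∀ x : AdicCompletion (Ideal.span {a}) M, r • x = 0 → x = 0) ∧
      ∀ x : AdicCompletion (Ideal.span {a}) M, AdicCompletion.map (Ideal.span {a}) π x = 0 →
        ∃ y, r • y = x := by
  have hdiv : ∀ (y z : M) (n : ℕ), r • y = a ^ (n + N) • z → ∃ w, y = a ^ n • w := by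
    intro y z n h
    have h0 : a ^ (n + N) • π z = 0 := by rw [← map_smul, ← h, (hker _).2 ⟨y, rfl⟩]
    have h1 : a ^ N • π z = 0 := hN _ ⟨_, h0⟩
    rw [← map_smul, hker] at h1
    obtain ⟨w, hw⟩ := h1
    refine ⟨w, sub_eq_zero.1 (hreg _ ?_)⟩
    rw [smul_sub, h, pow_add, mul_smul, ← hw, smul_comm, sub_self]
  refine ⟨fun x hx => AdicCompletion.ext fun n => ?_, fun x hx => ?_⟩
  · obtain ⟨y, hy⟩ := Submodule.Quotient.mk_surjective _ (x.val (n + N))
    have h0 : r • x.val (n + N) = 0 := by rw [← val_smul', hx]; rfl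
    rw [← hy, ← Submodule.Quotient.mk_smul, Submodule.Quotient.mk_eq_zero, mem_pow_smul_top] at h0
    obtain ⟨z, hz⟩ := h0
    obtain ⟨w, hw⟩ := hdiv y z n hz.symm
    rw [← x.2 (Nat.le_add_right n N), ← hy]
    refine (Submodule.Quotient.mk_eq_zero _).2 ?_
    rw [mem_pow_smul_top]
    exact ⟨w, hw.symm⟩
  · have hex : ∀ n, ∃ y : M, x.val n = Submodule.Quotient.mk (r • y) := fun n => by
      obtain ⟨v, hv⟩ := Submodule.Quotient.mk_surjective _ (x.val n)
      have h0 : (AdicCompletion.map (Ideal.span {a}) π x).val n = 0 := by rw [hx]; rfl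
      rw [AdicCompletion.map_val_apply, ← hv] at h0
      replace h0 : π v ∈ (Ideal.span {a} ^ n • ⊤ : Submodule A M') := (Submodule.Quotient.mk_eq_zero _).1 h0
      rw [mem_pow_smul_top] at h0
      obtain ⟨w, hw⟩ := h0
      obtain ⟨w', rfl⟩ := hπ w
      obtain ⟨y, hy⟩ := (hker (v - a ^ n • w')).1 (by rw [map_sub, map_smul, hw, sub_self])
      refine ⟨y, ?_⟩
      rw [← hv, hy, Submodule.Quotient.eq, sub_sub_cancel, mem_pow_smul_top]
      exact ⟨w', rfl⟩
    choose y hy using hex
    refine ⟨⟨fun n => Submodule.Quotient.mk (y (n + N)), fun {m n} hmn => ?_⟩, AdicCompletion.ext fun n => ?_⟩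
    · change (Submodule.Quotient.mk (y (n + N)) : M ⧸ (Ideal.span {a} ^ m • ⊤ : Submodule A M)) =
        Submodule.Quotient.mk (y (m + N))
      rw [Submodule.Quotient.eq, mem_pow_smul_top]
      have h1 := x.2 (by omega : m + N ≤ n + N)
      rw [hy, hy] at h1
      replace h1 : r • y (n + N) - r • y (m + N) ∈ (Ideal.span {a} ^ (m + N) • ⊤ : Submodule A M) :=
        (Submodule.Quotient.eq _).1 h1
      rw [mem_pow_smul_top] at h1
      obtain ⟨z, hz⟩ := h1
      obtain ⟨w, hw⟩ := hdiv (y (n + N) - y (m + N)) z m (by rw [smul_sub, hz])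
      exact ⟨w, hw.symm⟩
    · rw [← x.2 (Nat.le_add_right n N), hy]
      rfl

theorem ofList_take_succ (rs : List A) {i : ℕ} (h : i < rs.length) :
    Ideal.ofList (rs.take (i + 1)) = Ideal.ofList (rs.take i) ⊔ Ideal.span {rs[i]} := by
  rw [List.take_succ_eq_append_getElem h, Ideal.ofList_append, Ideal.ofList_singleton]

theorem map_ofList_take (rs : List A) {B : Type u} [CommRing B] [Algebra A B] (i : ℕ) :
    Ideal.ofList ((rs.map (algebraMap A B)).take i) = (Ideal.ofList (rs.take i)).map (algebraMap A B) := by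
  rw [Ideal.map_ofList, List.map_take]

theorem main (rs : List A) (hreg : IsWeaklyRegular A rs)
    (hbd : ∀ i ≤ rs.length, ∃ N : ℕ, ∀ x : A ⧸ Ideal.ofList (rs.take i), (∃ m : ℕ, a ^ m • x = 0) → a ^ N • x = 0) :
    (∀ i ≤ rs.length, LinearMap.ker (AdicCompletion.map (Ideal.span {a}) (Ideal.ofList (rs.take i)).mkQ) =
      (Ideal.ofList (rs.take i)).map (algebraMap A (AdicCompletion (Ideal.span {a}) A))) ∧
    IsWeaklyRegular (AdicCompletion (Ideal.span {a}) A) (rs.map (algebraMap A (AdicCompletion (Ideal.span {a}) A))) := by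
  let C := AdicCompletion (Ideal.span {a}) A
  have hstep : ∀ i (h : i < rs.length),
      (∀ x : AdicCompletion (Ideal.span {a}) (A ⧸ Ideal.ofList (rs.take i)), rs[i] • x = 0 → x = 0) ∧
      ∀ x : AdicCompletion (Ideal.span {a}) (A ⧸ Ideal.ofList (rs.take i)),
        AdicCompletion.map (Ideal.span {a}) (Submodule.factor (by rw [ofList_take_succ rs h]; exact le_sup_left :
          Ideal.ofList (rs.take i) ≤ Ideal.ofList (rs.take (i + 1)))) x = 0 → ∃ y, rs[i] • y = x := by
    intro i h
    obtain ⟨N, hN⟩ := hbd (i + 1) h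
    refine exact_step a rs[i] _ (Submodule.factor_surjective _) (fun x => ?_) (fun x hx => ?_) N hN
    · obtain ⟨x, rfl⟩ := Submodule.mkQ_surjective _ x
      rw [Submodule.factor_mk, Submodule.mkQ_apply, Submodule.mkQ_apply, Submodule.Quotient.mk_eq_zero, ofList_take_succ rs h,
        Submodule.mem_sup]
      constructor
      · rintro ⟨j, hj, z, hz, rfl⟩
        obtain ⟨c, rfl⟩ := Ideal.mem_span_singleton'.1 hz
        refine ⟨Submodule.Quotient.mk c, ?_⟩
        rw [← Submodule.Quotient.mk_smul, Submodule.Quotient.eq, smul_eq_mul, mul_comm c]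
        simpa using Submodule.neg_mem _ hj
      · rintro ⟨y, hy⟩
        obtain ⟨c, rfl⟩ := Submodule.mkQ_surjective _ y
        rw [Submodule.mkQ_apply, ← Submodule.Quotient.mk_smul, Submodule.Quotient.eq, smul_eq_mul] at hy
        exact ⟨x - rs[i] * c, by simpa using Submodule.neg_mem _ hy, rs[i] * c,
          Ideal.mem_span_singleton'.2 ⟨c, mul_comm _ _⟩, sub_add_cancel _ _⟩
    · have h1 := hreg.regular_mod_prev i h
      obtain ⟨x, rfl⟩ := Submodule.mkQ_surjective _ x
      rw [Submodule.mkQ_apply, ← Submodule.Quotient.mk_smul, Submodule.Quotient.mk_eq_zero] at hx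
      refine (Submodule.Quotient.mk_eq_zero _).2 ?_
      have e : ∀ J : Ideal A, (J • ⊤ : Submodule A A) = J := fun J => by rw [Ideal.smul_eq_mul, Ideal.mul_top]
      have h2 := h1.right_eq_zero_of_smul (x := Submodule.Quotient.mk x) (by
        rw [← Submodule.Quotient.mk_smul, Submodule.Quotient.mk_eq_zero, e]; exact hx)
      rwa [Submodule.Quotient.mk_eq_zero, e] at h2
  have hker : ∀ i ≤ rs.length, LinearMap.ker (AdicCompletion.map (Ideal.span {a}) (Ideal.ofList (rs.take i)).mkQ) =
      (Ideal.ofList (rs.take i)).map (algebraMap A C) := by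
    intro i
    induction i with
    | zero =>
      intro _
      have h0 : Ideal.ofList (rs.take 0) = (⊥ : Ideal A) := by rw [List.take_zero, Ideal.ofList_nil]
      rw [show (Ideal.ofList (rs.take 0)).map (algebraMap A C) = ⊥ by rw [h0, Ideal.map_bot]]
      rw [LinearMap.ker_eq_bot']
      intro x hx
      have h1 := congrArg (AdicCompletion.map (Ideal.span {a}) (Submodule.quotEquivOfEqBot _ h0).toLinearMap) hx
      rw [map_zero, AdicCompletion.map_comp_apply] at h1
      rwa [show (Submodule.quotEquivOfEqBot _ h0).toLinearMap.comp (Ideal.ofList (rs.take 0)).mkQ = LinearMap.id from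
        LinearMap.ext fun y => rfl, AdicCompletion.map_id, LinearMap.id_apply] at h1
    | succ i ih =>
      intro hi
      have h : i < rs.length := hi
      replace ih := ih h.le
      set f := Submodule.factor (by rw [ofList_take_succ rs h]; exact le_sup_left :
        Ideal.ofList (rs.take i) ≤ Ideal.ofList (rs.take (i + 1)))
      have hcomp : ∀ x : C, AdicCompletion.map (Ideal.span {a}) f
          (AdicCompletion.map (Ideal.span {a}) (Ideal.ofList (rs.take i)).mkQ x) =
          AdicCompletion.map (Ideal.span {a}) (Ideal.ofList (rs.take (i + 1))).mkQ x := fun x => by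
        rw [AdicCompletion.map_comp_apply]
        congr 2
      refine le_antisymm (fun x hx => ?_) (Ideal.map_le_iff_le_comap.2 fun c hc => ?_)
      · obtain ⟨y, hy⟩ := (hstep i h).2 _ ((hcomp x).trans hx)
        obtain ⟨z, rfl⟩ := AdicCompletion.map_surjective (Ideal.span {a}) (Submodule.mkQ_surjective _) y
        have hz : x - algebraMap A C rs[i] * z ∈
            (Ideal.ofList (rs.take i)).map (algebraMap A C) := by
          rw [← ih, LinearMap.mem_ker, map_sub, sub_eq_zero, ← Algebra.smul_def, LinearMap.map_smul_of_tower, hy]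
        rw [ofList_take_succ rs h, Ideal.map_sup, Ideal.map_span (algebraMap A C) {rs[i]}, Set.image_singleton]
        exact Submodule.mem_sup.2 ⟨_, hz, _, Ideal.mem_span_singleton'.2 ⟨z, mul_comm _ _⟩, sub_add_cancel _ _⟩
      · rw [Ideal.mem_comap, LinearMap.mem_ker, Algebra.algebraMap_eq_smul_one, LinearMap.map_smul_of_tower]
        refine AdicCompletion.ext fun n => ?_
        rw [val_smul', AdicCompletion.map_val_apply]
        obtain ⟨v, hv⟩ := Submodule.Quotient.mk_surjective _ ((1 : C).val n)
        rw [← hv]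
        refine (Submodule.Quotient.mk_eq_zero _).2 ?_
        beta_reduce
        rw [show c • (Ideal.ofList (rs.take (i + 1))).mkQ v = 0 from
          (Submodule.Quotient.mk_eq_zero _).2 (Ideal.mul_mem_right _ _ hc)]
        exact zero_mem _
  refine ⟨hker, ⟨fun i hi => ?_⟩⟩
  have h : i < rs.length := by simpa using hi
  refine isSMulRegular_iff_right_eq_zero_of_smul.2 fun x hx => ?_
  obtain ⟨x, rfl⟩ := Submodule.mkQ_surjective _ x
  rw [Submodule.mkQ_apply, ← Submodule.Quotient.mk_smul, Submodule.Quotient.mk_eq_zero, Ideal.smul_eq_mul,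
    Ideal.mul_top, map_ofList_take, ← hker i h.le, List.getElem_map, smul_eq_mul, ← Algebra.smul_def,
    LinearMap.mem_ker, LinearMap.map_smul_of_tower] at hx
  rw [Submodule.mkQ_apply, Submodule.Quotient.mk_eq_zero, Ideal.smul_eq_mul, Ideal.mul_top, map_ofList_take,
    ← hker i h.le, LinearMap.mem_ker]
  exact (hstep i h).1 _ hx

end Groth.Agent.ComplReg
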